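import Cfsg.Agent.H22.FocalTransfer

/-!
A normal subgroup with prescribed Sylow subgroup: if the focal subgroup of `P ⊓ H` in the normal subgroup `H`
lies in `A` and `A` is weakly closed among its images in `P`, then `O^p(H) A` is normal with Sylow subgroup `A`.
-/

set_option autoImplicit false

namespace Cfsg.Agent.H35.Meet

open Subgroup
open scoped commutatorElement

theorem exists_normal_with_sylow {G : Type*} [Group G] [Finite G] {p : ℕ} [Fact p.Prime] (P : Sylow p G)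
    (H : Subgroup G) [H.Normal] (A : Subgroup G) (hAH : A ≤ H) (hAP : A ≤ (P : Subgroup G))
    (hA : ∀ g : G, ∀ a ∈ A, g * a * g⁻¹ ∈ (P : Subgroup G) → g * a * g⁻¹ ∈ A)
    (hfoc : ∀ x ∈ (P : Subgroup G), x ∈ H → ∀ g ∈ H, g * x * g⁻¹ ∈ (P : Subgroup G) →
      x⁻¹ * (g * x * g⁻¹) ∈ A) :
    ∃ K : Subgroup G, K.Normal ∧ A ≤ K ∧ ¬ p ∣ A.relIndex K ∧
      ∀ g ∈ H, (orderOf g).Coprime p → g ∈ K := by
  have hidx : ¬ p ∣ ((P : Subgroup G).subgroupOf H).index := H22.sylow_not_dvd_relIndex_normal P H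
  have hPp : IsPGroup p ((P : Subgroup G).subgroupOf H) :=
    P.2.comap_of_injective _ H.subtype_injective
  obtain ⟨Q, hQ⟩ : ∃ Q : Sylow p H, (Q : Subgroup H) = (P : Subgroup G).subgroupOf H :=
    ⟨hPp.toSylow hidx, IsPGroup.toSylow_coe _ _⟩
  -- the focal subgroup of `P ⊓ H` in `H` lies in `A`
  have hfocA : (Q : Subgroup H).focalSubgroup ≤ A.subgroupOf H := by
    rw [focalSubgroup_def, closure_le]
    rintro z ⟨hz, x, hx, u, rfl⟩
    rw [hQ, mem_subgroupOf] at hz hx
    rw [SetLike.mem_coe, mem_subgroupOf]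
    have h1 : (u : G) * ((x : G)⁻¹) * (u : G)⁻¹ = (x : G)⁻¹ * ((⁅x, u⁆ : H) : G) := by
      simp only [commutatorElement_def, Subgroup.coe_mul, Subgroup.coe_inv]
      group
    have h2 := hfoc _ (inv_mem hx) (inv_mem x.2) u u.2 (h1 ▸ mul_mem (inv_mem hx) hz)
    rwa [h1, inv_inv, mul_inv_cancel_left] at h2
  obtain ⟨O, hO⟩ : ∃ O : Subgroup G, O = (pResidual p H).map H.subtype := ⟨_, rfl⟩
  have hOn : O.Normal := hO ▸ ConjAct.normal_of_characteristic_of_normal
  have hOH : O ≤ H := hO ▸ map_subtype_le _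
  have hOP : ∀ x ∈ O, x ∈ (P : Subgroup G) → x ∈ A := by
    intro x hx hxP
    rw [hO] at hx
    obtain ⟨y, hy, rfl⟩ := hx
    refine mem_subgroupOf.1 (hfocA ?_)
    rw [← Subgroup.commutator_inf_eq_focalSubgroup]
    have hyQ : y ∈ (Q : Subgroup H) := hQ ▸ mem_subgroupOf.2 hxP
    exact ⟨H22.sylow_inf_pResidual_le_commutator Q ⟨hyQ, hy⟩, hyQ⟩
  obtain ⟨K, hK⟩ : ∃ K : Subgroup G, K = O ⊔ A := ⟨_, rfl⟩
  have hKn : K.Normal := by
    -- `G` is generated by `O` and the normalizer of `P ⊓ H`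
    have hN : ∀ n ∈ normalizer (((Q : Subgroup H).map H.subtype : Subgroup G) : Set G),
        n ∈ normalizer (K : Set G) := by
      intro n hn
      have hle : ∀ m ∈ normalizer (((Q : Subgroup H).map H.subtype : Subgroup G) : Set G),
          ∀ a ∈ K, m * a * m⁻¹ ∈ K := by
        intro m hm a ha
        have : K ≤ K.comap (MulAut.conj m).toMonoidHom := by
          conv_lhs => rw [hK]
          refine sup_le (fun o ho => ?_) fun a ha => ?_
          · show m * o * m⁻¹ ∈ K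
            exact hK ▸ mem_sup_left (hOn.conj_mem o ho m)
          · show m * a * m⁻¹ ∈ K
            have ha' : a ∈ (Q : Subgroup H).map H.subtype :=
              ⟨⟨a, hAH ha⟩, hQ ▸ mem_subgroupOf.2 (hAP ha), rfl⟩
            obtain ⟨b, hb, hbe⟩ := (mem_normalizer_iff.1 hm a).1 ha'
            refine hK ▸ mem_sup_right (hA m a ha ?_)
            rw [← hbe]
            exact mem_subgroupOf.1 (hQ ▸ hb)
        exact this ha
      rw [mem_normalizer_iff]
      refine fun a => ⟨hle n hn a, fun ha => ?_⟩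
      have := hle n⁻¹ (inv_mem hn) _ ha
      rwa [show n⁻¹ * (n * a * n⁻¹) * n⁻¹⁻¹ = a by group] at this
    have hsup := Sylow.normalizer_sup_eq_top (G := G) Q
    rw [← normalizer_eq_top_iff, eq_top_iff]
    intro g _
    have hg : g ∈ normalizer (((Q : Subgroup H).map H.subtype : Subgroup G) : Set G) ⊔ H :=
      hsup ▸ mem_top g
    refine (sup_le hN ?_ : _ ≤ normalizer (K : Set G)) hg
    intro x hx
    have hmem : (⟨x, hx⟩ : H) ∈ pResidual p H ⊔ (Q : Subgroup H) :=
      (H22.pResidual_sup_sylow Q).symm ▸ mem_top _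
    have h2 : x ∈ O ⊔ (Q : Subgroup H).map H.subtype := by
      rw [hO, ← Subgroup.map_sup]
      exact ⟨_, hmem, rfl⟩
    refine (sup_le ?_ ?_ : _ ≤ normalizer (K : Set G)) h2
    · exact (hK ▸ le_sup_left : O ≤ K).trans le_normalizer
    · exact fun y hy => hN y (le_normalizer hy)
  have hKP : (P : Subgroup G) ⊓ K = A := by
    refine le_antisymm ?_ (le_inf hAP (hK ▸ le_sup_right))
    rintro x ⟨hxP, hxK⟩
    rw [SetLike.mem_coe, hK] at hxK
    obtain ⟨o, ho, a, ha, rfl⟩ := mem_sup_of_normal_left.1 hxK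
    exact mul_mem (hOP o ho ((mul_mem_cancel_right (hAP ha)).1 hxP)) ha
  refine ⟨K, hKn, hK ▸ le_sup_right, ?_, fun g hg hc => hK ▸ mem_sup_left ?_⟩
  · rw [← hKP, inf_relIndex_right]
    exact H22.sylow_not_dvd_relIndex_normal P K
  · rw [hO]
    refine ⟨⟨g, hg⟩, H22.mem_pResidual_of_coprime ?_, rfl⟩
    rwa [← Subgroup.orderOf_coe]

end Cfsg.Agent.H35.Meet
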