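import Cfsg.Agent.H35.Meet.Stabilizer
import Cfsg.Agent.H35.Meet.SylowGroup
import Cfsg.Agent.H94.Meet.Gen
import Cfsg.Agent.H96.AlperinApps

/-!
The automorphisms induced by the intersection are a Sylow subgroup of the automizer of the meet at a fully
normalized subgroup.
-/

set_option autoImplicit false
set_option linter.unusedSectionVars false

namespace Cfsg.Agent.H35.Meet

open Cfsg Cfsg.FusionSystem
open Cfsg.Agent.H93 (Mor)
open Cfsg.Agent.H94.Meet (hull Data TCentric BGood ConjInner meetAut meetSet)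

variable {Ω : Type*} [Group Ω] {S T₁ T₂ U : Subgroup Ω} {F : FusionSystem S} {E₁ : FusionSystem T₁}
  {E₂ : FusionSystem T₂} {p : ℕ}

/-- Restriction from the stabilizer to `U`. -/
def stabRes (F : FusionSystem S) (U : Subgroup Ω) : stabAut F U →* MulAut U :=
  (resHom (H94.Meet.le_hull S U)).comp (Subgroup.inclusion inf_le_right)

theorem stabRes_apply (g : stabAut F U) (x : U) :
    ((stabRes F U g x : U) : Ω) = ((g : MulAut (hull S U)) ⟨x, H94.Meet.le_hull S U x.2⟩ : hull S U) := rfl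

variable [Finite S] [Fact p.Prime]

theorem stabRes_mem_autGroup (hU : U ≤ S) (g : stabAut F U) : stabRes F U g ∈ F.autGroup U := by
  obtain ⟨f, hf, hfe⟩ := H93.exists_mor_of_aut (H94.Meet.hull_le hU) g.2.1
  have := H93.finite_of_le hU
  have hfU : Mor F U U f := by
    obtain ⟨U', -, h'⟩ := hf.restrict (H94.Meet.le_hull S U)
    obtain rfl : U' = U := Subgroup.eq_of_le_of_card_ge (fun y hy => by
      obtain ⟨x, hx, rfl⟩ := h'.surj hy
      rw [show f x = _ from hfe ⟨x, H94.Meet.le_hull S U hx⟩]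
      exact (g.2.2 _).2 hx) h'.card_eq.le
    exact h'
  obtain ⟨a, ha, hae⟩ := hfU.exists_aut
  rwa [show stabRes F U g = a from MulEquiv.ext fun x => Subtype.ext (by
    rw [stabRes_apply, hae]
    exact (hfe _).symm)]

theorem exists_stabAut_of_mor (hU : U ≤ S) {g : Ω → Ω} (hg : Mor F (hull S U) (hull S U) g)
    {a : MulAut U} (hga : ∀ x : U, g x = ((a x : U) : Ω)) :
    ∃ k : stabAut F U, stabRes F U k = a ∧
      ∀ y : hull S U, (((k : MulAut (hull S U)) y : hull S U) : Ω) = g y := by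
  obtain ⟨α, hα, hαe⟩ := hg.exists_aut
  have := H93.finite_of_le hU
  refine ⟨⟨α, hα, mem_stab_of (H94.Meet.le_hull S U) fun x hx => ?_⟩,
    MulEquiv.ext fun x => Subtype.ext ?_, hαe⟩
  · rw [hαe, show g x = _ from hga ⟨x, hx⟩]
    exact Subtype.mem _
  · rw [stabRes_apply]
    exact (hαe _).trans (hga x)

theorem exists_stabRes_eq (hS : IsPGroup p S) (hF : F.IsSaturated p) (hU : F.IsFullyCentralized U)
    {a : MulAut U} (ha : a ∈ F.autGroup U) : ∃ k : stabAut F U, stabRes F U k = a := by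
  obtain ⟨f, hf, hfe⟩ := H93.exists_mor_of_aut hU.1 ha
  obtain ⟨g, hge, M, -, hg, hM⟩ := H94.Meet.exists_hull_map hS hF hf hU
  obtain rfl := hM hU
  obtain ⟨k, hk, -⟩ := exists_stabAut_of_mor hU.1 hg (a := a) fun x => (hge x x.2).trans (hfe x)
  exact ⟨k, hk⟩

/-- The elements congruent to the identity modulo `U`. -/
def congSubgroup (F : FusionSystem S) (U : Subgroup Ω) : Subgroup (stabAut F U) where
  carrier := {g | ∀ y : hull S U, (y : Ω)⁻¹ * (((g : MulAut (hull S U)) y : hull S U) : Ω) ∈ U}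
  one_mem' y := by simp
  mul_mem' {a b} ha hb y := by
    have h := U.mul_mem (hb y) (ha ((b : MulAut (hull S U)) y))
    rwa [mul_assoc, mul_inv_cancel_left] at h
  inv_mem' {a} ha y := by
    have h := ha ((a : MulAut (hull S U))⁻¹ y)
    rw [show (a : MulAut (hull S U)) ((a : MulAut (hull S U))⁻¹ y) = y from
      (a : MulAut (hull S U)).apply_symm_apply y] at h
    simpa using U.inv_mem h

omit [Finite S] [Fact p.Prime] in
theorem congSubgroup_normal : (congSubgroup F U).Normal := by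
  refine ⟨fun g hg k y => ?_⟩
  obtain ⟨z, rfl⟩ := (k : MulAut (hull S U)).surjective y
  have h1 := (k.2.2 (z⁻¹ * (g : MulAut (hull S U)) z)).2 (by simpa using hg z)
  rw [map_mul, map_inv, Subgroup.coe_mul, Subgroup.coe_inv] at h1
  simpa using h1

/-- On a fully normalized subgroup, the automorphisms from `S` in a weakly normal subsystem come from its base. -/
theorem mem_autInducedBy_base {W : Subgroup Ω} {E : FusionSystem W} (hS : IsPGroup p S) (hF : F.IsSaturated p)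
    (hE : E.IsWeaklyNormalIn F p) (hUW : U ≤ W) (hU : F.IsFullyNormalized U) {a : MulAut U}
    (ha : a ∈ autInducedBy S U) (haE : a ∈ E.autGroup U) : a ∈ autInducedBy W U := by
  have hWS := hE.2.2.2.1.1
  have := H93.finite_of_le hWS
  have hn := (H96.fully_of_subsystem hS hF hE.2.2.2.1 hE.2.2.1 hUW).2 hU
  obtain ⟨-, R, hR⟩ := (H94.fullyNormalized_spec (hS.to_le hWS) hE.1 hn).1
  have hle : (R : Subgroup (E.autGroup U)) ≤ (autInducedBy S U).subgroupOf (E.autGroup U) := by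
    rw [hR]
    exact fun x hx => H93.autInducedBy_mono hWS U hx
  have heq := R.is_maximal'
    ((H94.isPGroup_autInducedBy (P := U) hS).comap_of_injective _ (Subgroup.subtype_injective _)) hle
  have hm : (⟨a, haE⟩ : E.autGroup U) ∈ (R : Subgroup (E.autGroup U)) := heq ▸ Subgroup.mem_subgroupOf.2 ha
  exact Subgroup.mem_subgroupOf.1 (hR ▸ hm)

/-- Conjugation between elements of `S` by an element of the stabilizer extends to the first of them. -/
theorem exists_ext_element (hS : IsPGroup p S) (hF : F.IsSaturated p) (hU : F.IsFullyNormalized U)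
    (g : stabAut F U) {s s' : Ω} (hs : s ∈ normalizerIn S U) (hs' : s' ∈ S)
    (h : ∀ (y : hull S U) (hy : s * (y : Ω) * s⁻¹ ∈ hull S U),
      (((g : MulAut (hull S U)) ⟨_, hy⟩ : hull S U) : Ω) =
        s' * (((g : MulAut (hull S U)) y : hull S U) : Ω) * s'⁻¹) :
    ∃ w ∈ S, (∀ y : hull S U, w * (y : Ω) * w⁻¹ = s' * (y : Ω) * s'⁻¹) ∧
      ∀ W : Subgroup Ω, F.StronglyClosed W → ∀ c : hull S U, s * (c : Ω) ∈ W →
        w * (((g : MulAut (hull S U)) c : hull S U) : Ω) ∈ W := by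
  have hV := H94.Meet.hull_le hU.1
  obtain ⟨φ, hφ, hφv⟩ : ∃ φ ∈ F.Hom (hull S U), ∀ y : hull S U,
      φ y = (((g : MulAut (hull S U)) y : hull S U) : Ω) :=
    ⟨_, (H93.mem_autGroup_iff hV).1 g.2.1, fun y => rfl⟩
  have hr : φ.range = hull S U := by
    refine le_antisymm (fun y ⟨x, hx⟩ => hx ▸ (hφv x).symm ▸ Subtype.mem _) fun y hy => ?_
    obtain ⟨x, hx⟩ := (g : MulAut (hull S U)).surjective ⟨y, hy⟩
    exact ⟨x, (hφv x).trans (congrArg Subtype.val hx)⟩
  obtain ⟨ψ, hψ, hψe⟩ := H93.exists_extension hφ hr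
    (hull_receptive hS hF (H94.fullyNormalized_fullyCentralized hS hF hU))
  have hsX : s ∈ extender S (hull S U) φ :=
    H93.mem_extender.2 ⟨le_hull_normalizer hs hU.1, s', hs', fun y hy => by
      rw [hφv, hφv]
      exact h y hy⟩
  have hval : ∀ y : hull S U, ψ (⟨s, hsX⟩ * Subgroup.inclusion (H93.le_extender hφ) y) =
      ψ ⟨s, hsX⟩ * (((g : MulAut (hull S U)) y : hull S U) : Ω) := fun y => by
    rw [map_mul, hψe, hφv]
  refine ⟨ψ ⟨s, hsX⟩, H93.apply_mem hψ _, fun y => ?_, fun W hW c hc => ?_⟩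
  · obtain ⟨z, hz⟩ := (g : MulAut (hull S U)).surjective y
    have hm : s * (z : Ω) * s⁻¹ ∈ hull S U := H93.mem_normalizerIn_conj (le_hull_normalizer hs hU.1) z.2
    rw [← hz, ← h z hm, ← hφv, ← hφv, ← hψe, ← hψe, ← map_inv, ← map_mul, ← map_mul]
    exact congrArg ψ (Subtype.ext rfl)
  · rw [← hval]
    exact H93.StronglyClosed.apply_mem hW hψ _ hc

theorem not_dvd_index_meetAut (h : Data p F E₁ E₂) {U : Subgroup Ω} (hU : TCentric F (T₁ ⊓ T₂) U)
    (hn : F.IsFullyNormalized U) :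
    ¬ p ∣ ((autInducedBy (T₁ ⊓ T₂) U).subgroupOf (meetAut p F E₁ E₂ U)).index := by
  obtain ⟨hS, hF, hE₁, hE₂⟩ := id h
  have hUS := hn.1
  have hT := h.closed
  have hV := H94.Meet.hull_le (S := S) hUS
  have hUV := H94.Meet.le_hull S U
  have := finite_mulAut (S := S) hV
  have hfinU := H93.finite_of_le hUS
  have hcen := H94.fullyNormalized_fullyCentralized hS hF hn
  obtain ⟨P, hP⟩ := exists_sylow_stabAut hS hF hn
  obtain ⟨A, hA⟩ : ∃ A : Subgroup (stabAut F U),
      A = (autInducedBy (T₁ ⊓ T₂) (hull S U)).subgroupOf (stabAut F U) := ⟨_, rfl⟩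
  have hnorm : ∀ {W : Subgroup Ω}, F.StronglyClosed W → ∀ {s x : Ω}, s ∈ S → x ∈ W → s * x * s⁻¹ ∈ W :=
    fun {W} hW {s x} hs hx => H93.StronglyClosed.conj_mem hW hs hx
  -- the elements of `A`
  have hAelt : ∀ a ∈ A, ∃ t ∈ normalizerIn (T₁ ⊓ T₂) U, ∀ y : hull S U,
      (((a : MulAut (hull S U)) y : hull S U) : Ω) = t * (y : Ω) * t⁻¹ := by
    intro a ha
    rw [hA] at ha
    obtain ⟨t, ht, hte⟩ := H93.mem_autInducedBy.1 (Subgroup.mem_subgroupOf.1 ha)
    refine ⟨t, ⟨ht, H94.mem_normalizer_of_forall_conj_mem fun u hu => ?_⟩, hte⟩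
    rw [← hte ⟨u, hUV hu⟩]
    exact (a.2.2 ⟨u, hUV hu⟩).2 hu
  have hAP : A ≤ (P : Subgroup (stabAut F U)) := fun a ha => by
    obtain ⟨t, ht, hte⟩ := hAelt a ha
    rw [hP, Subgroup.mem_subgroupOf]
    exact H93.mem_autInducedBy.2 ⟨t, ⟨h.le ht.1, ht.2⟩, hte⟩
  have hPelt : ∀ x ∈ (P : Subgroup (stabAut F U)), ∃ s ∈ normalizerIn S U, ∀ y : hull S U,
      (((x : MulAut (hull S U)) y : hull S U) : Ω) = s * (y : Ω) * s⁻¹ := fun x hx => by
    rw [hP, Subgroup.mem_subgroupOf] at hx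
    exact H93.mem_autInducedBy.1 hx
  -- extension along the stabilizer
  have hext : ∀ (g : stabAut F U) {x : stabAut F U} {s s' : Ω}, s ∈ normalizerIn S U → s' ∈ S →
      (∀ y : hull S U, (((x : MulAut (hull S U)) y : hull S U) : Ω) = s * (y : Ω) * s⁻¹) →
      (∀ y : hull S U, ((((g * x * g⁻¹ : stabAut F U) : MulAut (hull S U)) y : hull S U) : Ω) =
        s' * (y : Ω) * s'⁻¹) →
      ∃ w ∈ S, (∀ y : hull S U, w * (y : Ω) * w⁻¹ = s' * (y : Ω) * s'⁻¹) ∧
        ∀ W : Subgroup Ω, F.StronglyClosed W → ∀ c : hull S U, s * (c : Ω) ∈ W →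
          w * (((g : MulAut (hull S U)) c : hull S U) : Ω) ∈ W := by
    intro g x s s' hs hs' hxe hge
    refine exists_ext_element hS hF hn g hs hs' fun y hy => ?_
    have h1 := hge ((g : MulAut (hull S U)) y)
    rw [Subgroup.coe_mul, Subgroup.coe_mul, Subgroup.coe_inv, MulAut.mul_apply, MulAut.mul_apply,
      show (g : MulAut (hull S U))⁻¹ ((g : MulAut (hull S U)) y) = y from
        (g : MulAut (hull S U)).symm_apply_apply y] at h1
    rwa [show (⟨s * (y : Ω) * s⁻¹, hy⟩ : hull S U) = (x : MulAut (hull S U)) y from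
      Subtype.ext (hxe y).symm]
  have hAfus : ∀ g : stabAut F U, ∀ a ∈ A, g * a * g⁻¹ ∈ (P : Subgroup (stabAut F U)) →
      g * a * g⁻¹ ∈ A := by
    intro g a ha hga
    obtain ⟨t, ht, hte⟩ := hAelt a ha
    obtain ⟨s', hs', hs'e⟩ := hPelt _ hga
    obtain ⟨w, hw, hwe, hwW⟩ := hext g ⟨h.le ht.1, ht.2⟩ hs'.1 hte hs'e
    have hwT : w ∈ T₁ ⊓ T₂ := by
      have h1 := hwW _ hT 1 (by simpa using ht.1)
      simpa using h1
    rw [hA, Subgroup.mem_subgroupOf]
    exact H93.mem_autInducedBy.2 ⟨w, hwT, fun y => (hs'e y).trans (hwe y).symm⟩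
  -- the normal subgroup
  obtain ⟨H, hH⟩ : ∃ H : Subgroup (stabAut F U), H =
      (E₁.autGroup U).comap (stabRes F U) ⊓ (E₂.autGroup U).comap (stabRes F U) ⊓ congSubgroup F U :=
    ⟨_, rfl⟩
  have hconjE : ∀ {W : Subgroup Ω} {E : FusionSystem W}, E.IsWeaklyNormalIn F p → T₁ ⊓ T₂ ≤ W →
      ((E.autGroup U).comap (stabRes F U)).Normal := by
    intro W E hE hW
    refine ⟨fun a ha k => ?_⟩
    rw [Subgroup.mem_comap, map_mul, map_mul, map_inv]
    exact H94.autGroup_conj_mem (H94.stronglyInvariant_of_invariant hE.2.2) hE.2.2.2.1.1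
      (hU.1.trans hW) (stabRes_mem_autGroup hUS k) ha
  have : H.Normal := by
    have := hconjE hE₁ inf_le_left
    have := hconjE hE₂ inf_le_right
    have := congSubgroup_normal (F := F) (U := U)
    rw [hH]
    exact Subgroup.normal_inf_normal _ _
  have hAH : A ≤ H := fun a ha => by
    obtain ⟨t, ht, hte⟩ := hAelt a ha
    have hres : ∀ {W : Subgroup Ω} (E : FusionSystem W), T₁ ⊓ T₂ ≤ W → stabRes F U a ∈ E.autGroup U :=
      fun {W} E hW => (H94.Meet.actsIn_iff (hU.1.trans hW)).1 ⟨_,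
        H93.mor_conj E (hU.1.trans hW) (⟨hW ht.1, ht.2⟩ : t ∈ normalizerIn W U), fun x =>
          (hte ⟨x, hUV x.2⟩).symm.trans (stabRes_apply a x).symm⟩
    rw [hH]
    refine ⟨⟨hres E₁ inf_le_left, hres E₂ inf_le_right⟩, fun y => ?_⟩
    refine hU.mem_of_hull h.le ((hull S U).mul_mem ((hull S U).inv_mem y.2) (Subtype.mem _)) ?_
    rw [hte]
    have h1 := (T₁ ⊓ T₂).mul_mem (hnorm hT (S.inv_mem (hV y.2)) ht.1) ((T₁ ⊓ T₂).inv_mem ht.1)
    simpa [mul_assoc] using h1
  have hfoc : ∀ x ∈ (P : Subgroup (stabAut F U)), x ∈ H → ∀ g ∈ H,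
      g * x * g⁻¹ ∈ (P : Subgroup (stabAut F U)) → x⁻¹ * (g * x * g⁻¹) ∈ A := by
    intro x hx hxH g hg hgx
    obtain ⟨s, hs, hse⟩ := hPelt x hx
    obtain ⟨s', hs', hs'e⟩ := hPelt _ hgx
    obtain ⟨w, hw, hwe, hwW⟩ := hext g hs hs'.1 hse hs'e
    rw [hH] at hxH hg
    have hpart : ∀ {W : Subgroup Ω} {E : FusionSystem W}, E.IsWeaklyNormalIn F p → T₁ ⊓ T₂ ≤ W →
        stabRes F U x ∈ E.autGroup U → s⁻¹ * w ∈ W := by
      intro W E hE hW hxE
      obtain ⟨t, ht, hte⟩ := H93.mem_autInducedBy.1 (mem_autInducedBy_base hS hF hE (hU.1.trans hW) hn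
        (H93.mem_autInducedBy.2 ⟨s, hs.1, fun u => (stabRes_apply x u).trans (hse _)⟩) hxE)
      have hWc := hE.2.2.2.1
      have hc : s⁻¹ * t ∈ hull S U := by
        refine H94.Meet.centralizerIn_le_hull S U (H93.mem_centralizerIn.2
          ⟨S.mul_mem (S.inv_mem hs.1) (hWc.1 ht), fun u hu => ?_⟩)
        have e : s * u * s⁻¹ = t * u * t⁻¹ :=
          ((hse ⟨u, hUV hu⟩).symm.trans (stabRes_apply x ⟨u, hu⟩).symm).trans (hte ⟨u, hu⟩)
        calc s⁻¹ * t * u * (s⁻¹ * t)⁻¹ = s⁻¹ * (t * u * t⁻¹) * s := by group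
          _ = u := by rw [← e]; group
      have h1 := hwW W hWc ⟨_, hc⟩ (by simpa using ht)
      have hd := hW (hU.1 (hg.2 ⟨_, hc⟩))
      have h2 : w * (s⁻¹ * t) ∈ W := by
        have h3 := W.mul_mem h1 (W.inv_mem hd)
        simpa [mul_assoc] using h3
      have h4 := hnorm hWc (S.mul_mem (S.inv_mem hs.1) (hWc.1 ht))
        (W.mul_mem (W.inv_mem ht) h2)
      simpa [mul_assoc] using h4
    rw [hA, Subgroup.mem_subgroupOf]
    refine H93.mem_autInducedBy.2 ⟨s⁻¹ * w, ⟨hpart hE₁ inf_le_left hxH.1.1,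
      hpart hE₂ inf_le_right hxH.1.2⟩, fun y => ?_⟩
    rw [Subgroup.coe_mul (stabAut F U), Subgroup.coe_inv, MulAut.mul_apply]
    obtain ⟨z, hz⟩ := (x : MulAut (hull S U)).surjective
      (((g * x * g⁻¹ : stabAut F U) : MulAut (hull S U)) y)
    rw [← hz, show (x : MulAut (hull S U))⁻¹ ((x : MulAut (hull S U)) z) = z from
      (x : MulAut (hull S U)).symm_apply_apply z]
    have e : s * (z : Ω) * s⁻¹ = w * (y : Ω) * w⁻¹ :=
      ((hse z).symm.trans (congrArg Subtype.val hz)).trans ((hs'e y).trans (hwe y).symm)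
    calc (z : Ω) = s⁻¹ * (s * z * s⁻¹) * s := by group
      _ = s⁻¹ * w * y * (s⁻¹ * w)⁻¹ := by rw [e]; group
  obtain ⟨K, hKn, hAK, hKidx, hKp⟩ := exists_normal_with_sylow P H A hAH hAP hAfus hfoc
  -- the automizer of the meet lies in the restriction of `K`
  have hle : meetAut p F E₁ E₂ U ≤ K.map (stabRes F U) := by
    refine H94.Meet.meetAut_le_of_gens ?_
    rintro a (⟨⟨-, ha1, ha2, hac⟩, hap⟩ | ⟨U', φ, t, hφ, ht, hte⟩)
    · obtain ⟨g, hg, hga, hgc, -, -⟩ := hac U (fun x => x) (Mor.id F hUS) hcen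
      obtain ⟨k, hk, hke⟩ := exists_stabAut_of_mor hUS hg hga
      have hkH : k ∈ H := by
        rw [hH]
        refine ⟨⟨?_, ?_⟩, fun y => ?_⟩
        · show stabRes F U k ∈ E₁.autGroup U
          rw [hk]
          exact (H94.Meet.actsIn_iff (hU.1.trans inf_le_left)).1 ha1
        · show stabRes F U k ∈ E₂.autGroup U
          rw [hk]
          exact (H94.Meet.actsIn_iff (hU.1.trans inf_le_right)).1 ha2
        · refine hU.mem_of_hull h.le ((hull S U).mul_mem ((hull S U).inv_mem y.2) (Subtype.mem _)) ?_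
          rw [hke]
          exact hgc y y.2
      obtain ⟨i, j, hij, ⟨e, he⟩, hj⟩ := H50.exists_p_p'_split (p := p) k
      have hi1 : stabRes F U (k ^ i) = 1 := by
        have h1 : orderOf (stabRes F U (k ^ i)) ∣ p ^ e := he ▸ orderOf_map_dvd _ _
        have h2 : orderOf (stabRes F U (k ^ i)) ∣ orderOf a := by
          rw [map_pow, hk]
          exact orderOf_pow_dvd i
        exact orderOf_eq_one_iff.1 (Nat.eq_one_of_dvd_coprimes (hap.pow_right e) h2 h1)
      refine ⟨k ^ j, hKp _ (pow_mem hkH j) hj, ?_⟩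
      conv_rhs => rw [← hk, hij, map_mul, hi1, one_mul]
    · obtain ⟨π, hπ, -, himg⟩ := H93.exists_map_to_fullyNormalized hS hF hn
        (H93.isConj_symm hφ.isConj)
      obtain ⟨f, hf, hfe⟩ := H93.exists_mor hπ rfl
      have hU'S := hφ.le_right
      have hU'N := H93.le_normalizerIn hU'S
      have hfU : Mor F U' U f := by
        refine hf.restrict_eq hU'N (fun x hx => ?_) fun y hy => ?_
        · rw [show f x = _ from hfe ⟨x, hU'N hx⟩, ← himg]
          exact H93.apply_mem_imgIn hx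
        · rw [← himg] at hy
          obtain ⟨x, hx, rfl⟩ := H93.mem_imgIn.1 hy
          exact ⟨x, hx, hfe x⟩
      have htN : t ∈ normalizerIn S U' := ⟨h.le ht.1, ht.2⟩
      have ht' : f t ∈ normalizerIn S U := hf.map_mem_normalizerIn hfU hU'N htN ht.2
      have ht'T : f t ∈ T₁ ⊓ T₂ := by
        rw [show f t = _ from hfe ⟨t, htN⟩]
        exact H93.StronglyClosed.apply_mem hT hπ ⟨t, htN⟩ ht.1
      obtain ⟨β, hβ, hβe⟩ := (hfU.comp hφ).exists_aut
      obtain ⟨k, hk⟩ := exists_stabRes_eq hS hF hcen hβ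
      obtain ⟨c, hc, hce⟩ := H94.exists_autInducedBy (P := hull S U) ht'T (le_hull_normalizer ht' hUS).2
      have hcG : c ∈ stabAut F U := autInducedBy_le_stabAut hUS
        (H93.mem_autInducedBy.2 ⟨f t, ht', hce⟩)
      have hcA : (⟨c, hcG⟩ : stabAut F U) ∈ A := hA ▸ Subgroup.mem_subgroupOf.2 hc
      have hcomm : β * a = stabRes F U ⟨c, hcG⟩ * β := MulEquiv.ext fun x => Subtype.ext (by
        rw [MulAut.mul_apply, MulAut.mul_apply, stabRes_apply, hce, hβe, hβe]
        show f (φ ((a x : U) : Ω)) = _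
        rw [hte, hf.map_conj htN (hU'N (hφ.map_mem x.2))])
      refine ⟨k⁻¹ * ⟨c, hcG⟩ * k, ?_, ?_⟩
      · have h1 := hKn.conj_mem _ (hAK hcA) k⁻¹
        rwa [inv_inv] at h1
      · rw [map_mul, map_mul, map_inv, hk, mul_assoc, ← hcomm, inv_mul_cancel_left]
  have hAle : A.map (stabRes F U) ≤ autInducedBy (T₁ ⊓ T₂) U := by
    rintro _ ⟨a, ha, rfl⟩
    obtain ⟨t, ht, hte⟩ := hAelt a ha
    exact H93.mem_autInducedBy.2 ⟨t, ht.1, fun x => (stabRes_apply a x).trans (hte _)⟩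
  show ¬ p ∣ (autInducedBy (T₁ ⊓ T₂) U).relIndex (meetAut p F E₁ E₂ U)
  intro hdvd
  have h1 : (autInducedBy (T₁ ⊓ T₂) U).relIndex (meetAut p F E₁ E₂ U) ∣
      (autInducedBy (T₁ ⊓ T₂) U).relIndex (K.map (stabRes F U)) := by
    rw [← Subgroup.relIndex_mul_relIndex _ _ _ (H94.Meet.autInducedBy_le_meetAut hUS) hle]
    exact dvd_mul_right _ _
  have h2 : (A.map (stabRes F U)).relIndex (K.map (stabRes F U)) ∣ A.relIndex K := by
    rw [← Subgroup.relIndex_comap]
    exact Subgroup.relIndex_dvd_of_le_left _ (Subgroup.le_comap_map _ _)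
  exact hKidx (hdvd.trans (h1.trans ((Subgroup.relIndex_dvd_of_le_left _ hAle).trans h2)))

/-- The Sylow property of the automizers of the meet. -/
theorem sylowProp (h : Data p F E₁ E₂) : H94.Meet.SylowProp p F E₁ E₂ :=
  fun _ hU hn => not_dvd_index_meetAut h hU hn

end Cfsg.Agent.H35.Meet
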