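import Cfsg.Agent.H94.Meet.Defs
import Cfsg.Agent.H50.ControlTransfer

/-!
The stabilizer of a fully normalized subgroup `U` in the automizer of `U C_S(U)`: the automorphisms induced by
`N_S(U)` are a Sylow subgroup of it.
-/

set_option autoImplicit false
set_option linter.unusedSectionVars false

namespace Cfsg.Agent.H35.Meet

open Cfsg Cfsg.FusionSystem
open Cfsg.Agent.H93 (Mor)
open Cfsg.Agent.H94.Meet (hull)

variable {Ω : Type*} [Group Ω] {S U V : Subgroup Ω} {F : FusionSystem S} {p : ℕ}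

/-- The automorphisms of `V` stabilizing `U`. -/
def stab (U V : Subgroup Ω) : Subgroup (MulAut V) where
  carrier := {g | ∀ x : V, ((g x : V) : Ω) ∈ U ↔ (x : Ω) ∈ U}
  one_mem' _ := Iff.rfl
  mul_mem' {a b} ha hb x := (ha (b x)).trans (hb x)
  inv_mem' {a} ha x := by
    have h := ha (a⁻¹ x)
    rw [show a (a⁻¹ x) = x from a.apply_symm_apply x] at h
    exact h.symm

/-- Restriction to `U` of the automorphisms of `V` stabilizing it. -/
def resHom (h : U ≤ V) : stab U V →* MulAut U where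
  toFun g :=
    { toFun := fun x => ⟨((g : MulAut V) ⟨x, h x.2⟩ : V), (g.2 ⟨x, h x.2⟩).2 x.2⟩
      invFun := fun x => ⟨((g⁻¹ : stab U V) : MulAut V) ⟨x, h x.2⟩, ((g⁻¹).2 ⟨x, h x.2⟩).2 x.2⟩
      left_inv := fun x => Subtype.ext (congrArg Subtype.val ((g : MulAut V).symm_apply_apply ⟨x, h x.2⟩) :)
      right_inv := fun x => Subtype.ext (congrArg Subtype.val ((g : MulAut V).apply_symm_apply ⟨x, h x.2⟩) :)
      map_mul' := fun x y => Subtype.ext (congrArg Subtype.val
        ((g : MulAut V).map_mul ⟨x, h x.2⟩ ⟨y, h y.2⟩) :) }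
  map_one' := MulEquiv.ext fun _ => Subtype.ext rfl
  map_mul' _ _ := MulEquiv.ext fun _ => Subtype.ext rfl

theorem resHom_apply (h : U ≤ V) (g : stab U V) (x : U) :
    ((resHom h g x : U) : Ω) = ((g : MulAut V) ⟨x, h x.2⟩ : V) := rfl

theorem mem_stab_of [Finite U] {g : MulAut V} (h : U ≤ V)
    (hg : ∀ x : V, (x : Ω) ∈ U → ((g x : V) : Ω) ∈ U) : g ∈ stab U V := by
  refine fun x => ⟨fun hx => ?_, hg x⟩
  obtain ⟨f, hf⟩ : ∃ f : U → U, f = fun y => ⟨g ⟨y, h y.2⟩, hg _ y.2⟩ := ⟨_, rfl⟩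
  have hinj : Function.Injective f := fun a b e => by
    subst hf
    exact Subtype.ext (congrArg Subtype.val (g.injective (Subtype.ext (congrArg Subtype.val e :))) :)
  obtain ⟨y, hy⟩ := Finite.surjective_of_injective hinj ⟨_, hx⟩
  subst hf
  have : (⟨(y : Ω), h y.2⟩ : V) = x := g.injective (Subtype.ext (congrArg Subtype.val hy :))
  exact this ▸ y.2

theorem finite_mulAut [Finite S] (hV : V ≤ S) : Finite (MulAut V) :=
  have := H93.finite_of_le hV
  Finite.of_injective (fun e : MulAut V => (e : V → V)) DFunLike.coe_injective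

theorem le_hull_normalizer {n : Ω} (hn : n ∈ normalizerIn S U) [Finite S] (hU : U ≤ S) :
    n ∈ normalizerIn S (hull S U) := by
  have := H93.finite_of_le (S := S) (H94.Meet.hull_le hU)
  refine ⟨hn.1, H94.mem_normalizer_of_forall_conj_mem fun x hx => ?_⟩
  have hle : hull S U ≤ (hull S U).comap (MulAut.conj n).toMonoidHom := by
    refine sup_le (fun x hx => H94.Meet.le_hull S U (H93.mem_normalizerIn_conj hn hx)) fun c hc => ?_
    refine H94.Meet.centralizerIn_le_hull S U (H93.mem_centralizerIn.2 ⟨?_, fun u hu => ?_⟩)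
    · exact S.mul_mem (S.mul_mem hn.1 hc.1) (S.inv_mem hn.1)
    · have hu' : n⁻¹ * u * n ∈ U := by
        simpa using H93.mem_normalizerIn_conj (Subgroup.inv_mem _ hn) hu
      have h' := (H93.mem_centralizerIn.1 hc).2 _ hu'
      simp only [MulEquiv.coe_toMonoidHom, MulAut.conj_apply]
      calc n * c * n⁻¹ * u * (n * c * n⁻¹)⁻¹ = n * (c * (n⁻¹ * u * n) * c⁻¹) * n⁻¹ := by group
        _ = u := by rw [h']; group
  exact hle hx

theorem hull_le_normalizerIn (hU : U ≤ S) : hull S U ≤ normalizerIn S U :=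
  sup_le (H93.le_normalizerIn hU) (H93.centralizerIn_le_normalizerIn S U)

theorem centralizerIn_hull_le (S U : Subgroup Ω) : centralizerIn S (hull S U) ≤ hull S U :=
  le_trans (inf_le_inf_left S (Subgroup.centralizer_le (H94.Meet.le_hull S U)))
    (H94.Meet.centralizerIn_le_hull S U)

variable [Finite S] [Fact p.Prime]

/-- The hull of a fully centralized subgroup is receptive. -/
theorem hull_receptive (hS : IsPGroup p S) (hF : F.IsSaturated p) (hU : F.IsFullyCentralized U) :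
    F.IsReceptive (hull S U) := by
  refine H94.fullyCentralized_receptive hS hF ⟨H94.Meet.hull_le hU.1, fun Q hQ => ?_⟩
  obtain ⟨φ, hφ, hr⟩ := hQ
  obtain ⟨f, hf, -⟩ := H93.exists_mor hφ hr
  obtain ⟨U', hU'Q, hfU⟩ := hf.restrict (H94.Meet.le_hull S U)
  have hfinC := H93.finite_of_le (S := S) (P := centralizerIn S U') inf_le_left
  obtain ⟨C, hCQ, hfC⟩ := hf.restrict (H94.Meet.centralizerIn_le_hull S U)
  obtain rfl : C = centralizerIn S U' := by
    refine Subgroup.eq_of_le_of_card_ge (fun y hy => ?_) ?_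
    · obtain ⟨x, hx, rfl⟩ := hfC.surj hy
      exact hf.map_mem_centralizerIn hfU (H94.Meet.le_hull S U) (H94.Meet.centralizerIn_le_hull S U hx)
        (H93.mem_centralizerIn.1 hx).2
    · rw [← hfC.card_eq]
      exact hU.2 U' hfU.isConj
  have hCle : centralizerIn S Q ≤ Q :=
    (le_inf inf_le_left (inf_le_right.trans (Subgroup.centralizer_le hU'Q))).trans hCQ
  obtain ⟨fi, hfi, hfi1, hfi2⟩ := hf.exists_inv
  have := H93.finite_of_le (S := S) (P := centralizerIn S (hull S U)) inf_le_left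
  refine Nat.card_le_card_of_injective (fun x : centralizerIn S Q => (⟨fi x,
    hfi.map_mem_centralizerIn hfi le_rfl (hCle x.2) (H93.mem_centralizerIn.1 x.2).2⟩ :
      centralizerIn S (hull S U))) fun x y e => ?_
  exact Subtype.ext (hfi.injOn (hCle x.2) (hCle y.2) (congrArg Subtype.val e :))

omit [Fact p.Prime] in
theorem normalizerIn_eq_of_le {N U' R : Subgroup Ω} (hU : F.IsFullyNormalized U) (hN : N = normalizerIn S U)
    (hU' : F.IsConj U U') (hR : R ≤ normalizerIn S U') (hc : Nat.card N = Nat.card R) :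
    normalizerIn S U' = R := by
  have := H93.finite_of_le (S := S) (P := normalizerIn S U') inf_le_left
  refine (Subgroup.eq_of_le_of_card_ge hR ?_).symm
  rw [← hc, hN]
  exact hU.2 U' hU'

/-- An automorphism of `N_S(U)` of `p`-power order stabilizing the fully normalized subgroup `U` is inner. -/
theorem exists_conj_of_pow_eq_one (hS : IsPGroup p S) (hF : F.IsSaturated p) (hU : F.IsFullyNormalized U)
    {h : MulAut (normalizerIn S U)} (hh : h ∈ F.autGroup (normalizerIn S U))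
    (hhU : h ∈ stab U (normalizerIn S U)) {k : ℕ} (hk : h ^ p ^ k = 1) :
    ∃ n ∈ normalizerIn S U, ∀ x : normalizerIn S U, ((h x : normalizerIn S U) : Ω) = n * x * n⁻¹ := by
  obtain ⟨N, hN⟩ : ∃ N, N = normalizerIn S U := ⟨_, rfl⟩
  revert h
  rw [← hN]
  intro h hh hhU hk
  have hNS : N ≤ S := hN ▸ inf_le_left
  have hUN : U ≤ N := hN ▸ H93.le_normalizerIn hU.1
  obtain ⟨R, hconj, hR⟩ := H93.exists_isFullyNormalized F hNS
  obtain ⟨φ, hφ, hr⟩ := hconj
  obtain ⟨f, hf, hfe⟩ := H93.exists_mor hφ hr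
  -- the transported automorphism
  obtain ⟨T, hT⟩ : ∃ T : Subgroup (MulAut R), T = (Subgroup.zpowers h).map
      (H93.autCongr φ (F.injective_of_mem hφ) hr).toMonoidHom := ⟨_, rfl⟩
  have hTle : T ≤ F.autGroup R := by
    rw [hT]
    rintro _ ⟨a, ha, rfl⟩
    exact H93.autCongr_mem hφ hr ((Subgroup.zpowers_le.2 hh) ha)
  have hTp : IsPGroup p T := by
    refine hT ▸ IsPGroup.map ?_ _
    obtain ⟨j, -, hj⟩ := (Nat.dvd_prime_pow (Fact.out : p.Prime)).1 (orderOf_dvd_of_pow_eq_one hk)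
    exact IsPGroup.of_card (n := j) (by rw [Nat.card_zpowers, hj])
  obtain ⟨β, hβ, hβT⟩ := H93.exists_conj_le_autInducedBy (p := p)
    (H94.fullyNormalized_spec hS hF hR).1 hTle hTp
  obtain ⟨b, hb, hbe⟩ := H93.exists_mor_of_aut hR.1 hβ
  have hmemT : H93.autCongr φ (F.injective_of_mem hφ) hr h ∈ T := by
    rw [hT]
    exact ⟨h, Subgroup.mem_zpowers h, rfl⟩
  obtain ⟨s, hs, hse⟩ := H93.mem_autInducedBy.1 (hβT _ hmemT)
  have hg := hb.comp hf
  -- conjugation by `s` realises `h`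
  have hkey : ∀ x : N, b (f (h x : N)) = s * b (f x) * s⁻¹ := fun x => by
    have e := hse (β ⟨f x, hf.map_mem x.2⟩)
    rw [← hbe, MulAut.mul_apply, MulAut.mul_apply,
      show β⁻¹ (β ⟨f x, hf.map_mem x.2⟩) = ⟨f x, hf.map_mem x.2⟩ from β.symm_apply_apply _, ← hbe] at e
    rw [← e]
    congr 1
    rw [show (⟨f x, hf.map_mem x.2⟩ : R) = H93.homEquiv φ (F.injective_of_mem hφ) hr x from
      Subtype.ext (hfe x)]
    exact (hfe (h x)).trans (H93.autCongr_apply φ _ hr h x).symm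
  obtain ⟨U', hU'R, hgU⟩ := hg.restrict hUN
  have hNU' : normalizerIn S U' = R := by
    refine normalizerIn_eq_of_le hU hN hgU.isConj (fun y hy => ?_) hg.card_eq
    obtain ⟨x, hx, rfl⟩ := hg.surj hy
    exact hg.map_mem_normalizerIn hgU hUN hx ((hN.le hx : x ∈ normalizerIn S U)).2
  have hsN : s ∈ normalizerIn S U' := by
    have := H93.finite_of_le (S := S) hgU.le_right
    refine ⟨hs, H94.mem_normalizer_of_forall_conj_mem fun y hy => ?_⟩
    obtain ⟨x, hx, rfl⟩ := hgU.surj hy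
    show s * b (f x) * s⁻¹ ∈ U'
    rw [← hkey ⟨x, hUN hx⟩]
    exact hgU.map_mem ((hhU ⟨x, hUN hx⟩).2 hx)
  rw [hNU'] at hsN
  obtain ⟨n, hn, hne⟩ := hg.surj hsN
  refine ⟨n, hn, fun x => hg.injOn (h x).2 (N.mul_mem (N.mul_mem hn x.2) (N.inv_mem hn)) ?_⟩
  rw [hg.map_conj hn x.2, hne]
  exact hkey x

/-- The stabilizer of `U` in the automizer of its hull. -/
def stabAut (F : FusionSystem S) (U : Subgroup Ω) : Subgroup (MulAut (hull S U)) :=
  F.autGroup (hull S U) ⊓ stab U (hull S U)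

theorem autInducedBy_le_stabAut (hU : U ≤ S) :
    autInducedBy (normalizerIn S U) (hull S U) ≤ stabAut F U := by
  intro a ha
  refine ⟨H93.autInducedBy_le_autGroup F (H94.Meet.hull_le hU) (H93.autInducedBy_mono inf_le_left _ ha), ?_⟩
  obtain ⟨n, hn, hne⟩ := H93.mem_autInducedBy.1 ha
  intro x
  rw [hne]
  exact (Subgroup.mem_normalizer_iff.1 hn.2 x).symm

/-- A `p`-element of the stabilizer normalizing the automorphisms induced by `N_S(U)` is one of them. -/
theorem mem_autInducedBy_of_normalizes (hS : IsPGroup p S) (hF : F.IsSaturated p) (hU : F.IsFullyNormalized U)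
    {g : MulAut (hull S U)} (hg : g ∈ stabAut F U) {k : ℕ} (hk : g ^ p ^ k = 1)
    (hn : ∀ a ∈ autInducedBy (normalizerIn S U) (hull S U),
      g * a * g⁻¹ ∈ autInducedBy (normalizerIn S U) (hull S U)) :
    g ∈ autInducedBy (normalizerIn S U) (hull S U) := by
  have hUS := hU.1
  have hVS := H94.Meet.hull_le hUS
  have hVN := hull_le_normalizerIn hUS
  obtain ⟨f, hf, hfe⟩ := H93.exists_mor_of_aut hVS hg.1
  have hrec := hull_receptive hS hF (H94.fullyNormalized_fullyCentralized hS hF hU)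
  obtain ⟨f', M', hf', hf'e, hf'V⟩ := hf.extend (M := normalizerIn S U) hrec fun m hm => by
    refine ⟨le_hull_normalizer hm hUS, ?_⟩
    obtain ⟨a, ha, hae⟩ := H94.exists_autInducedBy (K := normalizerIn S U) hm (le_hull_normalizer hm hUS).2
    obtain ⟨t, ht, hte⟩ := H93.mem_autInducedBy.1 (hn a ha)
    refine ⟨t, ht.1, fun x hx => ?_⟩
    have e := hte (g ⟨x, hx⟩)
    rw [MulAut.mul_apply, MulAut.mul_apply, show g⁻¹ (g ⟨x, hx⟩) = ⟨x, hx⟩ from g.symm_apply_apply _,
      ← hfe, ← hfe, hae] at e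
    exact e
  rw [sup_eq_right.2 hVN] at hf'
  have hUV := H94.Meet.le_hull S U
  have hfinU := H93.finite_of_le hUS
  have hf'U : Mor F U U f' := by
    obtain ⟨U', -, h'⟩ := hf'V.restrict hUV
    obtain rfl : U' = U := Subgroup.eq_of_le_of_card_ge (fun y hy => by
      obtain ⟨x, hx, rfl⟩ := h'.surj hy
      rw [hf'e x (hUV hx), show f x = _ from hfe ⟨x, hUV hx⟩]
      exact (hg.2 ⟨x, hUV hx⟩).2 hx) h'.card_eq.le
    exact h'
  obtain rfl : M' = normalizerIn S U := by
    have := H93.finite_of_le (S := S) (P := normalizerIn S U) inf_le_left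
    refine Subgroup.eq_of_le_of_card_ge (fun y hy => ?_) hf'.card_eq.le
    obtain ⟨x, hx, rfl⟩ := hf'.surj hy
    exact hf'.map_mem_normalizerIn hf'U (H93.le_normalizerIn hUS) hx hx.2
  obtain ⟨α, hα, hαe⟩ := hf'.exists_aut
  have hfinV := H93.finite_of_le hVS
  have hαV : α ∈ stab (hull S U) (normalizerIn S U) := mem_stab_of hVN fun x hx => by
    rw [hαe]
    exact hf'V.map_mem hx
  have hαU : α ∈ stab U (normalizerIn S U) := mem_stab_of (H93.le_normalizerIn hUS) fun x hx => by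
    rw [hαe]
    exact hf'U.map_mem hx
  have hres : resHom hVN ⟨α, hαV⟩ = g := MulEquiv.ext fun x => Subtype.ext (by
    rw [resHom_apply]
    exact ((hαe ⟨x, hVN x.2⟩).trans (hf'e x x.2)).trans (hfe x))
  have := finite_mulAut (S := S) (V := normalizerIn S U) inf_le_left
  obtain ⟨i, j, hij, ⟨e, he⟩, hj⟩ := H50.exists_p_p'_split (p := p) (⟨α, hαV⟩ : stab (hull S U) (normalizerIn S U))
  have hgj : g ^ j = 1 := by
    refine H50.eq_one_of_isPGroup_coprime (p := p) (A := Subgroup.zpowers g) ?_ (a := ⟨g ^ j,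
      Subgroup.npow_mem_zpowers g j⟩) (n := orderOf ((⟨α, hαV⟩ : stab (hull S U) (normalizerIn S U)) ^ j))
      (Subtype.ext ?_) hj |> congrArg Subtype.val
    · rintro ⟨y, hy⟩
      refine ⟨k, Subtype.ext ?_⟩
      obtain ⟨m, rfl⟩ := hy
      show (g ^ m) ^ p ^ k = 1
      rw [← zpow_natCast (g ^ m), ← zpow_mul, mul_comm, zpow_mul, zpow_natCast, hk, one_zpow]
    · show (g ^ j) ^ _ = 1
      rw [← hres, ← map_pow, ← map_pow, pow_orderOf_eq_one, map_one]
  have hgi : g = resHom hVN (⟨α, hαV⟩ ^ i) := by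
    conv_lhs => rw [← hres, hij, map_mul, map_pow _ _ j, hres, hgj, mul_one]
  obtain ⟨n, hnN, hne⟩ := exists_conj_of_pow_eq_one hS hF hU (pow_mem hα i) (pow_mem hαU i) (k := e) (by
    have h1 := congrArg Subtype.val (pow_orderOf_eq_one ((⟨α, hαV⟩ : stab (hull S U) (normalizerIn S U)) ^ i))
    rw [he] at h1
    exact h1)
  refine H93.mem_autInducedBy.2 ⟨n, hnN, fun x => ?_⟩
  rw [hgi, resHom_apply]
  exact hne ⟨x, hVN x.2⟩

/-- The automorphisms induced by `N_S(U)` are a Sylow subgroup of the stabilizer. -/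
theorem exists_sylow_stabAut (hS : IsPGroup p S) (hF : F.IsSaturated p) (hU : F.IsFullyNormalized U) :
    ∃ P : Sylow p (stabAut F U),
      (P : Subgroup (stabAut F U)) = (autInducedBy (normalizerIn S U) (hull S U)).subgroupOf (stabAut F U) := by
  have := finite_mulAut (H94.Meet.hull_le hU.1)
  obtain ⟨B, hB⟩ : ∃ B : Subgroup (stabAut F U),
      B = (autInducedBy (normalizerIn S U) (hull S U)).subgroupOf (stabAut F U) := ⟨_, rfl⟩
  have hBp : IsPGroup p B := hB ▸
    (H94.isPGroup_autInducedBy (hS.to_le inf_le_left)).comap_of_injective _ (Subgroup.subtype_injective _)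
  obtain ⟨Q, hQ⟩ := hBp.exists_le_sylow
  refine ⟨Q, hB ▸ ?_⟩
  by_contra hne
  have hlt : B < (Q : Subgroup (stabAut F U)) := lt_of_le_of_ne hQ fun e => hne e.symm
  obtain ⟨g, ⟨hgQ, hgN⟩, hgB⟩ := SetLike.exists_of_lt (H93.lt_inf_normalizer Q.2 hlt)
  refine hgB (hB ▸ Subgroup.mem_subgroupOf.2 ?_)
  obtain ⟨k, hk⟩ := Q.2 ⟨g, hgQ⟩
  have hk' : (g : MulAut (hull S U)) ^ p ^ k = 1 := by
    have h1 := congrArg (fun z : (Q : Subgroup (stabAut F U)) => ((z : stabAut F U) : MulAut (hull S U))) hk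
    simpa using h1
  refine mem_autInducedBy_of_normalizes hS hF hU g.2 (k := k) hk' fun a ha => ?_
  have h1 := (Subgroup.mem_normalizer_iff.1 hgN ⟨a, autInducedBy_le_stabAut hU.1 ha⟩).1
    (hB ▸ Subgroup.mem_subgroupOf.2 ha)
  exact Subgroup.mem_subgroupOf.1 (hB ▸ h1)

end Cfsg.Agent.H35.Meet
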