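import Mathlib

/-!
Induction over the maps between subgroups of a Sylow subgroup induced by conjugation: a property of
transporters closed under composition and restriction holds everywhere if it holds for the elements
of the Sylow subgroup and for the `p'`-elements of normalisers.
-/

set_option autoImplicit false

namespace Cfsg.Agent.H35.Meet

open Subgroup

variable {G : Type*} [Group G]

theorem map_conj_mul (W : Subgroup G) (a b : G) :
    W.map (MulAut.conj (b * a)).toMonoidHom =
      (W.map (MulAut.conj a).toMonoidHom).map (MulAut.conj b).toMonoidHom := by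
  rw [Subgroup.map_map]
  congr 1
  ext x
  simp [mul_assoc]

theorem map_conj_inv (W : Subgroup G) (a : G) :
    (W.map (MulAut.conj a).toMonoidHom).map (MulAut.conj a⁻¹).toMonoidHom = W := by
  rw [← map_conj_mul, inv_mul_cancel, map_one]
  exact W.map_id

theorem map_conj_eq_of_mem {W : Subgroup G} {n : G} (hn : n ∈ normalizer (W : Set G)) :
    W.map (MulAut.conj n).toMonoidHom = W :=
  mem_normalizer_iff_map_conj_eq.1 hn

variable [Finite G] {p : ℕ} [hp : Fact p.Prime]

/-- Some conjugate of a `p`-subgroup inside `P` has a normaliser with a Sylow subgroup inside `P`,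
and every conjugating element can be corrected so that it carries the normaliser in `P` into `P`. -/
theorem exists_good_conj (P : Sylow p G) {W : Subgroup G} (hW : W ≤ (P : Subgroup G)) :
    ∃ g : G, W.map (MulAut.conj g).toMonoidHom ≤ P ∧
      ∀ R : Subgroup G, IsPGroup p R →
        R ≤ normalizer ((W.map (MulAut.conj g).toMonoidHom : Subgroup G) : Set G) →
        ∃ h ∈ normalizer ((W.map (MulAut.conj g).toMonoidHom : Subgroup G) : Set G),
          R.map (MulAut.conj h).toMonoidHom ≤ P := by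
  classical
  set N := normalizer (W : Set G) with hN
  have hWN : IsPGroup p (W.subgroupOf N) := (P.2.to_le hW).comap_of_injective N.subtype N.subtype_injective
  obtain ⟨R₀, hR₀⟩ := hWN.exists_le_sylow
  obtain ⟨Q, hQ⟩ := (R₀.2.map N.subtype).exists_le_sylow
  obtain ⟨g, hg⟩ := MulAction.exists_smul_eq G Q P
  have hgP : (Q : Subgroup G).map (MulAut.conj g).toMonoidHom = P := by
    rw [← hg]; rfl
  set V := W.map (MulAut.conj g).toMonoidHom with hV
  have hWQ : W ≤ (Q : Subgroup G) := by
    intro w hw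
    exact hQ ⟨⟨w, le_normalizer hw⟩, hR₀ (mem_subgroupOf.2 hw), rfl⟩
  refine ⟨g, hgP ▸ map_mono hWQ, fun R hR hRN => ?_⟩
  have hNV : N.map (MulAut.conj g).toMonoidHom = normalizer (V : Set G) := by
    rw [hN, hV]
    exact map_equiv_normalizer_eq W (MulAut.conj g)
  have hR' : R.map (MulAut.conj g⁻¹).toMonoidHom ≤ N := by
    have h := map_mono (f := (MulAut.conj g⁻¹).toMonoidHom) hRN
    rw [← hNV, map_conj_inv] at h
    exact h
  obtain ⟨R₁, hR₁⟩ := ((hR.map (MulAut.conj g⁻¹).toMonoidHom).comap_of_injective N.subtype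
    N.subtype_injective).exists_le_sylow
  obtain ⟨n, hn⟩ := MulAction.exists_smul_eq N R₁ R₀
  refine ⟨g * n * g⁻¹, ?_, ?_⟩
  · rw [← hNV]
    exact ⟨n, n.2, rfl⟩
  · rw [map_conj_mul, map_conj_mul, ← hgP]
    refine map_mono ?_
    rintro _ ⟨x, hx, rfl⟩
    refine hQ ⟨n * ⟨x, hR' hx⟩ * n⁻¹, ?_, rfl⟩
    rw [← hn]
    exact ⟨_, hR₁ hx, rfl⟩

/-- A set of normaliser elements closed under multiplication that contains a Sylow `p`-subgroup and
all `p'`-elements is everything. -/
theorem mem_of_sylow_coprime {N : Subgroup G} (R : Subgroup G) (s : Set G) (h1 : (1 : G) ∈ s)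
    (hmul : ∀ a ∈ N, ∀ b ∈ N, a ∈ s → b ∈ s → a * b ∈ s)
    (hcop : ∀ a ∈ N, (orderOf a).Coprime p → a ∈ s)
    (hR : ∀ a ∈ R, a ∈ s) (hRN : R ≤ N)
    (hRmax : ∀ Q : Subgroup G, IsPGroup p Q → Q ≤ N →
      ∃ h ∈ N, Q.map (MulAut.conj h).toMonoidHom ≤ R) :
    ∀ a ∈ N, a ∈ s := by
  classical
  have hpow : ∀ a ∈ N, a ∈ s → ∀ k : ℕ, a ^ k ∈ s := by
    intro a ha has k
    induction k with
    | zero => rwa [pow_zero]
    | succ k ih => rw [pow_succ]; exact hmul _ (N.pow_mem ha k) _ ha ih has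
  let H : Subgroup N :=
    { carrier := {a | (a : G) ∈ s}
      one_mem' := h1
      mul_mem' := fun {a b} ha hb => hmul _ a.2 _ b.2 ha hb
      inv_mem' := fun {a} ha => by
        show ((a⁻¹ : N) : G) ∈ s
        rw [inv_eq_of_mul_eq_one_right (show a * a ^ (orderOf a - 1) = 1 by
          rw [← pow_succ', Nat.sub_add_cancel (orderOf_pos a), pow_orderOf_eq_one])]
        exact hpow _ a.2 ha _ }
  suffices hH : H = ⊤ from fun a ha => (hH ▸ mem_top _ : (⟨a, ha⟩ : N) ∈ H)
  refine eq_top_of_le_card H (Nat.le_of_dvd Nat.card_pos ?_)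
  refine Nat.dvd_iff_prime_pow_dvd_dvd _ _ |>.2 fun q k hq hk => ?_
  have := Fact.mk hq
  obtain ⟨S₀⟩ : Nonempty (Sylow q N) := inferInstance
  suffices hS : ∃ Q : Subgroup N, Q ≤ H ∧ Nat.card Q = Nat.card (S₀ : Subgroup N) by
    obtain ⟨Q, hQH, hQc⟩ := hS
    refine ((S₀.card_eq_multiplicity ▸ ?_ : q ^ k ∣ Nat.card (S₀ : Subgroup N)).trans
      (hQc ▸ Subgroup.card_dvd_of_le hQH))
    exact pow_dvd_pow q ((hq.pow_dvd_iff_le_factorization Nat.card_pos.ne').1 hk)
  by_cases hqp : q = p
  · subst hqp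
    obtain ⟨h, hh, hle⟩ := hRmax _ (S₀.2.map N.subtype) (map_subtype_le _)
    refine ⟨(S₀ : Subgroup N).map (MulAut.conj ⟨h, hh⟩).toMonoidHom, ?_,
      Nat.card_congr (equivMapOfInjective _ _ (MulAut.conj _).injective).symm.toEquiv⟩
    rintro _ ⟨x, hx, rfl⟩
    exact hR _ (hle ⟨x, ⟨x, hx, rfl⟩, rfl⟩)
  · refine ⟨S₀, fun a ha => hcop _ a.2 ?_, rfl⟩
    obtain ⟨j, hj⟩ := IsPGroup.iff_orderOf.mp S₀.2 ⟨a, ha⟩
    rw [orderOf_mk] at hj
    rw [orderOf_coe, hj]
    exact Nat.Coprime.pow_left j ((Nat.coprime_primes hq hp.out).2 hqp)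

/-- **Transporter induction**: downward induction on the source. -/
theorem transporter_induction (P : Sylow p G) (Φ : Subgroup G → G → Prop)
    (mul : ∀ W a b, W ≤ (P : Subgroup G) → W.map (MulAut.conj a).toMonoidHom ≤ P →
      W.map (MulAut.conj (b * a)).toMonoidHom ≤ P → Φ W a →
      Φ (W.map (MulAut.conj a).toMonoidHom) b → Φ W (b * a))
    (mono : ∀ W V a, W ≤ V → V ≤ (P : Subgroup G) → V.map (MulAut.conj a).toMonoidHom ≤ P →
      Φ V a → Φ W a)
    (of_mem : ∀ W a, W ≤ (P : Subgroup G) → a ∈ (P : Subgroup G) → Φ W a)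
    (of_normalizer : ∀ W a, W ≤ (P : Subgroup G) → a ∈ Subgroup.normalizer (W : Set G) →
      (orderOf a).Coprime p → Φ W a) :
    ∀ W a, W ≤ (P : Subgroup G) → W.map (MulAut.conj a).toMonoidHom ≤ P → Φ W a := by
  classical
  suffices key : ∀ (n : ℕ) (W : Subgroup G), Nat.card (P : Subgroup G) - Nat.card W = n →
      ∀ a, W ≤ (P : Subgroup G) → W.map (MulAut.conj a).toMonoidHom ≤ P → Φ W a from
    fun W a => key _ W rfl a
  intro n
  induction n using Nat.strong_induction_on with
  | _ n ih =>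
  intro W hn a hW ha
  -- elements of the normaliser of a subgroup whose normaliser has a Sylow subgroup inside `P`
  have hnorm : ∀ V : Subgroup G, V ≤ (P : Subgroup G) →
      (∀ R : Subgroup G, IsPGroup p R → R ≤ normalizer (V : Set G) →
        ∃ h ∈ normalizer (V : Set G), R.map (MulAut.conj h).toMonoidHom ≤ P) →
      ∀ m ∈ normalizer (V : Set G), Φ V m := by
    intro V hV hgood
    refine mem_of_sylow_coprime (p := p) ((P : Subgroup G) ⊓ normalizer (V : Set G))
      {m | Φ V m} (of_mem V 1 hV (one_mem _)) (fun x hx y hy hxs hys => ?_)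
      (fun m hm hc => of_normalizer V m hV hm hc) (fun m hm => of_mem V m hV hm.1) inf_le_right
      fun Q hQ hQN => ?_
    · refine mul V y x hV ((map_conj_eq_of_mem hy).trans_le hV)
        ((map_conj_eq_of_mem (mul_mem hx hy)).trans_le hV) hys ?_
      rw [map_conj_eq_of_mem hy]
      exact hxs
    · obtain ⟨h, hh, hle⟩ := hgood Q hQ hQN
      refine ⟨h, hh, le_inf hle ?_⟩
      rintro _ ⟨x, hx, rfl⟩
      exact mul_mem (mul_mem hh (hQN hx)) (inv_mem hh)
  obtain ⟨g, hgP, hgood⟩ := exists_good_conj P hW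
  set V := W.map (MulAut.conj g).toMonoidHom with hVdef
  by_cases hWP : W = (P : Subgroup G)
  · have haN : a ∈ normalizer (W : Set G) := by
      refine mem_normalizer_iff_map_conj_eq.2 (eq_of_le_of_card_ge (hWP ▸ ha) ?_)
      exact (Nat.card_congr (equivMapOfInjective _ _ (MulAut.conj a).injective).toEquiv).le
    refine hnorm W hW (fun R hR hRN => ⟨1, one_mem _, ?_⟩) a haN
    rw [map_one]
    refine (Eq.trans_le R.map_id ?_)
    have h := hR.to_sup_of_normal_right' P.2 (by rwa [hWP] at hRN)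
    exact le_sup_left.trans (P.3 h le_sup_right).le
  have hlt : W < (P : Subgroup G) := lt_of_le_of_ne hW hWP
  -- a transporter to the good conjugate defined on a larger subgroup of `P`
  have step : ∀ (W' : Subgroup G) (b : G), W' ≤ (P : Subgroup G) → Nat.card W' = Nat.card W →
      W'.map (MulAut.conj b).toMonoidHom = V →
      ∃ c : G, W'.map (MulAut.conj c).toMonoidHom = V ∧ Φ W' c ∧ Φ V c⁻¹ := by
    intro W' b hW' hc hb
    set U := (P : Subgroup G) ⊓ normalizer (W' : Set G) with hU
    have hW'U : W' < U := by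
      have hne : W' ≠ (P : Subgroup G) := fun e =>
        hWP (eq_of_le_of_card_ge hW (by rw [← hc, e]))
      haveI : Group.IsNilpotent (P : Subgroup G) := P.2.isNilpotent
      have h1 : W'.subgroupOf P < ⊤ := lt_top_iff_ne_top.2 fun e =>
        hne (le_antisymm hW' (subgroupOf_eq_top.1 e))
      obtain ⟨x, hxN, hx⟩ := SetLike.exists_of_lt (Group.normalizerCondition_of_isNilpotent _ h1)
      rw [← subgroupOf_normalizer_eq hW'] at hxN
      exact lt_of_le_of_ne (le_inf hW' le_normalizer) fun e =>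
        hx (mem_subgroupOf.2 (e ▸ ⟨x.2, hxN⟩ : (x : G) ∈ W'))
    obtain ⟨h, hh, hle⟩ := hgood (U.map (MulAut.conj b).toMonoidHom)
      ((P.2.to_le inf_le_left).map _) (by
        refine (map_mono inf_le_right).trans ?_
        rw [← hb]
        exact (map_equiv_normalizer_eq W' (MulAut.conj b)).le)
    rw [← map_conj_mul] at hle
    have hcV : W'.map (MulAut.conj (h * b)).toMonoidHom = V := by
      rw [map_conj_mul, hb, map_conj_eq_of_mem hh]
    have hsmall : ∀ X : Subgroup G, X ≤ (P : Subgroup G) → Nat.card U = Nat.card X →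
        Nat.card (P : Subgroup G) - Nat.card X < n := by
      intro X hX hUX
      have h2 : Nat.card W < Nat.card X := by
        rw [← hUX, ← hc]
        exact lt_of_not_ge fun hge => hW'U.ne (eq_of_le_of_card_ge hW'U.le hge)
      have h3 : Nat.card X ≤ Nat.card (P : Subgroup G) := card_le_of_le hX
      omega
    refine ⟨h * b, hcV, mono W' U _ hW'U.le inf_le_left hle
      (ih _ (hsmall U inf_le_left rfl) U rfl _ inf_le_left hle), ?_⟩
    rw [← hcV]
    refine mono _ (U.map (MulAut.conj (h * b)).toMonoidHom) _ (map_mono hW'U.le) hle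
      ((map_conj_inv U _).trans_le inf_le_left) ?_
    exact ih _ (hsmall _ hle (Nat.card_congr
      (equivMapOfInjective _ _ (MulAut.conj _).injective).toEquiv)) _ rfl _ hle
      ((map_conj_inv U _).trans_le inf_le_left)
  set W' := W.map (MulAut.conj a).toMonoidHom with hW'
  obtain ⟨c, hc, hΦc, -⟩ := step W g hW rfl rfl
  obtain ⟨d, hd, -, hΦd⟩ := step W' (g * a⁻¹) ha
    (Nat.card_congr (equivMapOfInjective _ _ (MulAut.conj a).injective).toEquiv).symm (by
      rw [map_conj_mul, hW', map_conj_inv])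
  have hm : d * a * c⁻¹ ∈ normalizer (V : Set G) := by
    refine mem_normalizer_iff_map_conj_eq.2 ?_
    show V.map (MulAut.conj (d * a * c⁻¹)).toMonoidHom = V
    conv_lhs => rw [← hc]
    rw [← map_conj_mul, inv_mul_cancel_right, map_conj_mul, ← hW', hd]
  have hmV : V.map (MulAut.conj (d * a * c⁻¹)).toMonoidHom = V := map_conj_eq_of_mem hm
  have h1 : Φ W (d * a * c⁻¹ * c) := by
    refine mul W c _ hW (hc.trans_le hgP) ?_ hΦc (hc.symm ▸ hnorm V hgP hgood _ hm)
    rw [map_conj_mul, hc, hmV]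
    exact hgP
  rw [inv_mul_cancel_right] at h1
  have h2 := mul W (d * a) d⁻¹ hW (by rw [map_conj_mul, ← hW', hd]; exact hgP)
    (by rw [inv_mul_cancel_left]; exact ha) h1 (by rw [map_conj_mul, ← hW', hd]; exact hΦd)
  rwa [inv_mul_cancel_left] at h2

end Cfsg.Agent.H35.Meet
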